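import Cfsg.Agent.H274.Rg.Tab

/-!
# Long root groups of the Chevalley groups (S5714): the table of `E8`
-/

set_option autoImplicit false
set_option maxHeartbeats 0
set_option maxRecDepth 100000

namespace Cfsg.Agent.H274.Rg

open Cfsg.Lie Cfsg.Agent.ChevalleyStructure Cfsg.Agent.ChevalleyStructure.RootCombGood Cfsg.Agent.H86.Lev

def cE8 : List (ℕ × ℕ × ℤ) :=
  [(120, (238, -1)), (122, (237, -1)), (125, (236, -1)), (129, (235, -1)), (134, (234, -1)), (140, (233, -1)),
   (146, (232, -1)), (151, (231, 1)), (155, (230, -1)), (158, (229, 1)), (160, (228, -1)), (161, (227, 1)),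
   (168, (225, -1)), (173, (224, 1)), (177, (223, -1)), (180, (222, 1)), (182, (221, -1)), (183, (220, 1)),
   (187, (218, 1)), (190, (217, -1)), (192, (216, 1)), (193, (215, -1)), (196, (213, 1)), (198, (212, -1)),
   (199, (211, 1)), (201, (209, 1)), (202, (208, -1)), (203, (206, 1)), (206, (203, -1)), (208, (202, 1)),
   (209, (201, -1)), (211, (199, -1)), (212, (198, 1)), (213, (196, -1)), (215, (193, 1)), (216, (192, -1)),
   (217, (190, 1)), (218, (187, -1)), (220, (183, -1)), (221, (182, 1)), (222, (180, -1)), (223, (177, 1)),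
   (224, (173, -1)), (225, (168, 1)), (227, (161, -1)), (228, (160, 1)), (229, (158, -1)), (230, (155, 1)),
   (231, (151, -1)), (232, (146, 1)), (233, (140, 1)), (234, (134, 1)), (235, (129, 1)), (236, (125, 1)),
   (237, (122, 1)), (238, (120, 1))]

def zE8 : List (ℕ × ℕ × ℕ) :=
  [(13, (120, 1)), (20, (120, 1)), (25, (120, 1)), (29, (120, 1)), (32, (120, 1)), (34, (120, 1)), (35, (122, 1)),
   (39, (120, 1)), (42, (120, 1)), (44, (120, 1)), (45, (122, 1)), (48, (120, 1)), (50, (120, 1)), (51, (122, 1)),
   (53, (120, 1)), (54, (122, 1)), (55, (125, 1)), (58, (120, 1)), (60, (120, 1)), (61, (122, 1)), (63, (120, 1)),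
   (64, (122, 1)), (65, (125, 1)), (67, (120, 1)), (68, (122, 1)), (69, (125, 1)), (70, (129, 1)), (72, (120, 1)),
   (73, (122, 1)), (74, (125, 1)), (75, (129, 1)), (76, (134, 1)), (77, (140, 1)), (80, (120, 1)), (82, (120, 1)),
   (83, (122, 1)), (85, (120, 1)), (86, (122, 1)), (87, (125, 1)), (89, (120, 1)), (90, (122, 1)), (91, (125, 1)),
   (92, (129, 1)), (94, (120, 1)), (95, (122, 1)), (96, (125, 1)), (97, (129, 1)), (98, (134, 1)), (100, (120, 1)),
   (101, (122, 1)), (102, (125, 1)), (103, (129, 1)), (104, (134, 1)), (106, (120, 1)), (107, (122, 1)),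
   (108, (125, 1)), (109, (129, 1)), (111, (120, 1)), (112, (122, 1)), (113, (125, 1)), (115, (120, 1)),
   (116, (122, 1)), (118, (120, 1)), (121, (122, 2)), (123, (125, 1)), (124, (125, 2)), (126, (129, 1)),
   (127, (129, 1)), (128, (129, 2)), (130, (134, 1)), (131, (134, 1)), (132, (134, 1)), (133, (134, 2)),
   (135, (140, 1)), (136, (140, 1)), (137, (140, 1)), (138, (140, 1)), (139, (140, 2)), (141, (146, 1)),
   (142, (146, 1)), (143, (146, 1)), (144, (146, 1)), (145, (146, 2)), (147, (151, 1)), (148, (151, 1)),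
   (149, (151, 1)), (150, (151, 2)), (152, (155, 1)), (153, (155, 1)), (154, (155, 2)), (156, (158, 1)),
   (157, (158, 2)), (159, (160, 3)), (162, (168, 1)), (163, (168, 1)), (164, (168, 1)), (165, (168, 1)),
   (166, (168, 1)), (167, (168, 2)), (169, (173, 1)), (170, (173, 1)), (171, (173, 1)), (172, (173, 2)),
   (174, (177, 1)), (175, (177, 1)), (176, (177, 2)), (178, (180, 1)), (179, (180, 2)), (181, (182, 3)),
   (184, (187, 1)), (185, (187, 1)), (186, (187, 2)), (188, (190, 1)), (189, (190, 2)), (191, (192, 3)),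
   (194, (196, 1)), (195, (196, 2)), (197, (198, 3)), (200, (201, 4)), (204, (206, 1)), (205, (206, 2)),
   (207, (208, 3)), (210, (211, 4)), (214, (215, 5)), (219, (220, 6)), (226, (227, 14))]

theorem rangeE8 : List.range chevE8.nroots = List.range' 0 60 ++ (List.range' 60 60 ++ (List.range' 120 60 ++
    List.range' 180 60)) := by decide +kernel

theorem oneE8_0 : (List.range' 0 60).all (chkOne chevE8 (fun _ => true) cE8) = true := by decide +kernel

theorem oneE8_1 : (List.range' 60 60).all (chkOne chevE8 (fun _ => true) cE8) = true := by decide +kernel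

theorem oneE8_2 : (List.range' 120 60).all (chkOne chevE8 (fun _ => true) cE8) = true := by decide +kernel

theorem oneE8_3 : (List.range' 180 60).all (chkOne chevE8 (fun _ => true) cE8) = true := by decide +kernel

theorem oneE8 : (List.range chevE8.nroots).all (chkOne chevE8 (fun _ => true) cE8) = true := by
  rw [rangeE8, List.all_append, List.all_append, List.all_append, oneE8_0, oneE8_1, oneE8_2, oneE8_3, Bool.true_and,
    Bool.true_and, Bool.true_and]

theorem zeroE8_0 : (List.range' 0 60).all (chkZero chevE8 (fun _ => true) zE8) = true := by decide +kernel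

theorem zeroE8_1 : (List.range' 60 60).all (chkZero chevE8 (fun _ => true) zE8) = true := by decide +kernel

theorem zeroE8_2 : (List.range' 120 60).all (chkZero chevE8 (fun _ => true) zE8) = true := by decide +kernel

theorem zeroE8_3 : (List.range' 180 60).all (chkZero chevE8 (fun _ => true) zE8) = true := by decide +kernel

theorem zeroE8 : (List.range chevE8.nroots).all (chkZero chevE8 (fun _ => true) zE8) = true := by
  rw [rangeE8, List.all_append, List.all_append, List.all_append, zeroE8_0, zeroE8_1, zeroE8_2, zeroE8_3,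
    Bool.true_and, Bool.true_and, Bool.true_and]

theorem hiRE8 : HiR chevE8 (fun _ => true) :=
  hiR_of cE8 zE8 oneE8 zeroE8 119 (by decide +kernel) (by decide +kernel) (by decide +kernel)

end Cfsg.Agent.H274.Rg
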