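import Cfsg.Agent.H274.Rg.Tab

/-!
# Long root groups of the Chevalley groups (S5714): the table of `G2`, `F4`, `E6`, `E7`
-/

set_option autoImplicit false
set_option maxHeartbeats 0
set_option maxRecDepth 100000

namespace Cfsg.Agent.H274.Rg

open Cfsg.Lie Cfsg.Agent.ChevalleyStructure Cfsg.Agent.ChevalleyStructure.RootCombGood Cfsg.Agent.H86.Lev

def cG2 : List (ℕ × ℕ × ℤ) :=
  [(6, (10, -1)), (10, (6, 1))]

def zG2 : List (ℕ × ℕ × ℕ) :=
  []

theorem oneG2 : (List.range chevG2.nroots).all (chkOne chevG2 longG2 cG2) = true := by decide +kernel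

theorem zeroG2 : (List.range chevG2.nroots).all (chkZero chevG2 longG2 zG2) = true := by decide +kernel

theorem hiRG2 : HiR chevG2 longG2 :=
  hiR_of cG2 zG2 oneG2 zeroG2 5 (by decide +kernel) (by decide +kernel) (by decide +kernel)

def cF4 : List (ℕ × ℕ × ℤ) :=
  [(24, (46, -1)), (26, (45, -1)), (31, (43, 1)), (32, (42, -1)), (42, (32, 1)), (43, (31, -1)), (45, (26, 1)),
   (46, (24, 1))]

def zF4 : List (ℕ × ℕ × ℕ) :=
  [(6, (24, 1)), (17, (24, 1)), (22, (24, 1)), (25, (26, 2)), (30, (31, 4)), (41, (42, 15))]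

theorem oneF4 : (List.range chevF4.nroots).all (chkOne chevF4 longF4 cF4) = true := by decide +kernel

theorem zeroF4 : (List.range chevF4.nroots).all (chkZero chevF4 longF4 zF4) = true := by decide +kernel

theorem hiRF4 : HiR chevF4 longF4 :=
  hiR_of cF4 zF4 oneF4 zeroF4 23 (by decide +kernel) (by decide +kernel) (by decide +kernel)

def cE6 : List (ℕ × ℕ × ℤ) :=
  [(46, (70, -1)), (47, (69, 1)), (48, (68, -1)), (49, (67, 1)), (50, (66, -1)), (51, (65, 1)), (52, (64, -1)),
   (53, (63, -1)), (54, (62, 1)), (55, (61, -1)), (61, (55, 1)), (62, (54, -1)), (63, (53, 1)), (64, (52, 1)),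
   (65, (51, -1)), (66, (50, 1)), (67, (49, -1)), (68, (48, 1)), (69, (47, -1)), (70, (46, 1))]

def zE6 : List (ℕ × ℕ × ℕ) :=
  [(11, (46, 1)), (12, (46, 1)), (13, (46, 1)), (14, (47, 1)), (15, (50, 1)), (26, (46, 1)), (27, (46, 1)),
   (28, (46, 1)), (29, (47, 1)), (30, (46, 1)), (31, (46, 1)), (32, (46, 1)), (33, (47, 1)), (34, (47, 1)),
   (35, (48, 1)), (36, (49, 1)), (37, (48, 1)), (38, (49, 1)), (39, (47, 2)), (40, (48, 2)), (41, (49, 2)),
   (42, (50, 1)), (43, (50, 2)), (44, (51, 3)), (45, (52, 4)), (56, (61, 1)), (57, (61, 1)), (58, (61, 2)),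
   (59, (62, 3)), (60, (63, 4))]

theorem oneE6 : (List.range chevE6.nroots).all (chkOne chevE6 (fun _ => true) cE6) = true := by decide +kernel

theorem zeroE6 : (List.range chevE6.nroots).all (chkZero chevE6 (fun _ => true) zE6) = true := by decide +kernel

theorem hiRE6 : HiR chevE6 (fun _ => true) :=
  hiR_of cE6 zE6 oneE6 zeroE6 25 (by decide +kernel) (by decide +kernel) (by decide +kernel)

def cE7 : List (ℕ × ℕ × ℤ) :=
  [(93, (124, -1)), (94, (123, 1)), (95, (122, -1)), (96, (121, 1)), (97, (120, -1)), (98, (119, 1)),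
   (99, (118, 1)), (100, (117, -1)), (101, (116, 1)), (102, (115, -1)), (103, (114, 1)), (104, (113, -1)),
   (105, (112, 1)), (106, (111, 1)), (107, (110, -1)), (108, (109, 1)), (109, (108, -1)), (110, (107, 1)),
   (111, (106, -1)), (112, (105, -1)), (113, (104, 1)), (114, (103, -1)), (115, (102, 1)), (116, (101, -1)),
   (117, (100, 1)), (118, (99, -1)), (119, (98, -1)), (120, (97, 1)), (121, (96, -1)), (122, (95, 1)),
   (123, (94, -1)), (124, (93, 1))]

def zE7 : List (ℕ × ℕ × ℕ) :=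
  [(33, (93, 1)), (34, (93, 1)), (35, (93, 1)), (36, (93, 1)), (37, (93, 1)), (38, (93, 1)), (39, (93, 1)),
   (40, (93, 1)), (41, (93, 1)), (42, (93, 1)), (43, (94, 1)), (44, (94, 1)), (45, (94, 1)), (46, (94, 1)),
   (47, (95, 1)), (48, (93, 1)), (49, (93, 1)), (50, (93, 1)), (51, (93, 1)), (52, (93, 1)), (53, (94, 1)),
   (54, (94, 1)), (55, (94, 1)), (56, (94, 1)), (57, (95, 1)), (58, (95, 1)), (59, (95, 1)), (60, (96, 1)),
   (61, (96, 1)), (62, (97, 1)), (63, (98, 1)), (64, (97, 1)), (65, (98, 1)), (66, (96, 1)), (67, (97, 1)),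
   (68, (98, 1)), (69, (95, 1)), (70, (96, 1)), (71, (97, 1)), (72, (98, 1)), (73, (94, 2)), (74, (95, 2)),
   (75, (96, 2)), (76, (97, 2)), (77, (98, 2)), (78, (99, 1)), (79, (99, 1)), (80, (100, 1)), (81, (101, 1)),
   (82, (102, 1)), (83, (99, 2)), (84, (100, 2)), (85, (101, 2)), (86, (102, 2)), (87, (103, 3)), (88, (104, 3)),
   (89, (105, 3)), (90, (106, 4)), (91, (107, 4)), (92, (108, 5))]

theorem oneE7 : (List.range chevE7.nroots).all (chkOne chevE7 (fun _ => true) cE7) = true := by decide +kernel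

theorem zeroE7 : (List.range chevE7.nroots).all (chkZero chevE7 (fun _ => true) zE7) = true := by decide +kernel

theorem hiRE7 : HiR chevE7 (fun _ => true) :=
  hiR_of cE7 zE7 oneE7 zeroE7 32 (by decide +kernel) (by decide +kernel) (by decide +kernel)

end Cfsg.Agent.H274.Rg
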